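import Cfsg.Prelude
import Cfsg.Agent.Lib.PGroup.CyclicSelfCentralizing
import Cfsg.Agent.Lib.PGroup.KulakoffTwo
import Cfsg.Agent.Lib.PGroup.MaximalClass
import Cfsg.Agent.Lib.PGroup.SmallCentralizer

/-!
2-groups of rank two: normal four-groups, small involution centralizers, maximal class.
-/

set_option autoImplicit false

namespace CfsgLib.TwoFusion.AlperinRankTwo

open Subgroup
open scoped commutatorElement

universe u

variable {X : Type u} [Group X] [Finite X]

/-- Dihedral of order at least four, or quasi-dihedral. -/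
def IsDQ (X : Type*) [Group X] : Prop :=
  (∃ m : ℕ, 2 ≤ m ∧ Nonempty (X ≃* DihedralGroup m)) ∨ Cfsg.IsQuasiDihedral X

theorem quaternion_invol : ∀ m : ℕ, ∀ u v : QuaternionGroup m, orderOf u = 2 → orderOf v = 2 →
    (m = 0 ∨ u = v) := by
  intro m u v hu hv
  rcases Nat.eq_zero_or_pos m with rfl | hm
  · exact Or.inl rfl
  right
  haveI : NeZero m := ⟨hm.ne'⟩
  have key : ∀ w : QuaternionGroup m, orderOf w = 2 → w = QuaternionGroup.a (m : ZMod (2 * m)) := by
    rintro (i | i) hw
    · have h1 : (QuaternionGroup.a i : QuaternionGroup m) * QuaternionGroup.a i = 1 := by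
        rw [← sq, ← hw]; exact pow_orderOf_eq_one _
      have hi0 : i ≠ 0 := by
        rintro rfl
        rw [QuaternionGroup.a_zero, orderOf_one] at hw
        exact absurd hw (by norm_num)
      rw [QuaternionGroup.a_mul_a, ← QuaternionGroup.a_zero] at h1
      have h2 : i + i = 0 := QuaternionGroup.a.inj h1
      congr 1
      haveI : NeZero (2 * m) := ⟨by omega⟩
      have h3 : ((i.val + i.val : ℕ) : ZMod (2 * m)) = 0 := by
        push_cast; rw [ZMod.natCast_zmod_val]; exact h2
      rw [ZMod.natCast_eq_zero_iff] at h3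
      have h4 : i.val ≠ 0 := fun h => hi0 ((ZMod.val_eq_zero i).mp h)
      have h5 := ZMod.val_lt i
      obtain ⟨c, hc⟩ := h3
      have : c = 1 := by
        rcases c with _ | _ | c
        · omega
        · rfl
        · exfalso; nlinarith
      subst this
      rw [← ZMod.natCast_zmod_val i, show i.val = m by omega]
    · rw [QuaternionGroup.orderOf_xa] at hw
      exact absurd hw (by norm_num)
  rw [key u hu, key v hv]

theorem isDQ_of_cyclic_index_two (hX : IsPGroup 2 X) (hna : ∃ x y : X, x * y ≠ y * x)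
    {u v : X} (hu : orderOf u = 2) (hv : orderOf v = 2) (huv : u ≠ v)
    (C : Subgroup X) (hC : IsCyclic C) (hCi : C.index = 2)
    (hsq : Nat.card X ≤ 8 ∨ ∃ x g : X, g * x ^ 2 * g⁻¹ ≠ x ^ 2) : IsDQ X := by
  haveI : Fact (Nat.Prime 2) := ⟨Nat.prime_two⟩
  obtain ⟨n, hn⟩ := hX.exists_card_eq
  have hn3 : 3 ≤ n := by
    by_contra h
    obtain ⟨x, y, hxy⟩ := hna
    apply hxy
    have hle : n ≤ 2 := by omega
    interval_cases n
    · haveI : Subsingleton X := (Nat.card_eq_one_iff_unique.mp (by rw [hn]; norm_num)).1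
      rw [Subsingleton.elim x y]
    · haveI : IsCyclic X := isCyclic_of_prime_card (p := 2) (by rw [hn]; norm_num)
      exact (IsCyclic.isMulCommutative (α := X)).is_comm.comm x y
    · haveI := IsPGroup.isMulCommutative_of_card_eq_prime_sq (p := 2) hn
      exact mul_comm' x y
  obtain ⟨m, rfl⟩ : ∃ m, n = m + 1 := ⟨n - 1, by omega⟩
  rcases CfsgLib.PGroup.SelfCent.maximalClass_cases m (by omega) hn C hC hCi hna (fun hm => hsq.resolve_left fun h => by
      have : 2 ^ 4 ≤ 2 ^ (m + 1) := Nat.pow_le_pow_right (by norm_num) (by omega)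
      omega) with ⟨k, ⟨e⟩⟩ | ⟨k, ⟨e⟩⟩ | h
  · refine Or.inl ⟨k, ?_, ⟨e⟩⟩
    have hc := Nat.card_congr e.toEquiv
    rw [hn, DihedralGroup.nat_card] at hc
    have : 2 ^ 3 ≤ 2 ^ (m + 1) := Nat.pow_le_pow_right (by norm_num) hn3
    omega
  · exfalso
    have := quaternion_invol k (e u) (e v) (by rw [e.orderOf_eq, hu]) (by rw [e.orderOf_eq, hv])
    rcases this with rfl | h
    · haveI : Infinite (ZMod (2 * 0)) := inferInstanceAs (Infinite ℤ)
      haveI : Finite (QuaternionGroup 0) := Finite.of_equiv X e.toEquiv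
      haveI : Finite (ZMod (2 * 0)) := Finite.of_injective (fun i => (QuaternionGroup.a i : QuaternionGroup 0))
        (fun i j h => QuaternionGroup.a.inj h)
      exact not_finite (ZMod (2 * 0))
    · exact huv (e.injective h)
  · exact Or.inr h

variable (hX : IsPGroup 2 X) (z : X) (hz : orderOf z = 2) (hzc : z ∈ center X)
  (huniq : ∀ x : X, orderOf x = 2 → x ∈ center X → x = z)

include hz hzc huniq in
theorem conj_cases_of_sq_central (hsq : ∀ x g : X, g * x ^ 2 * g⁻¹ = x ^ 2)
    (hcomm : ∀ a b : X, ⁅a, b⁆ ∈ center X) {e : X} (he : orderOf e = 2) (g : X) :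
    g * e * g⁻¹ = e ∨ g * e * g⁻¹ = e * z := by
  have he2 : e * e = 1 := by rw [← sq, ← he]; exact pow_orderOf_eq_one e
  set c := e⁻¹ * (g * e * g⁻¹) with hc
  have hge : g * e * g⁻¹ = e * c := by rw [hc, mul_inv_cancel_left]
  by_cases hc1 : c = 1
  · left; rw [hge, hc1, mul_one]
  · right
    rw [hge]
    congr 1
    have hcc : c = ⁅e⁻¹, g⁆ := by rw [hc, commutatorElement_def]; group
    have hcen : c ∈ center X := hcc ▸ hcomm _ _
    refine huniq c (orderOf_eq_prime ?_ hc1) hcen
    have h1 : e * c * (e * c) = 1 := by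
      rw [← hge, show g * e * g⁻¹ * (g * e * g⁻¹) = g * (e * e) * g⁻¹ by group, he2, mul_one,
        mul_inv_cancel]
    rw [mul_assoc e c, ← mul_assoc c e c, ← mem_center_iff.mp hcen e, mul_assoc e c c, ← mul_assoc,
      he2, one_mul] at h1
    rw [sq]; exact h1

theorem commutator_central (hsq : ∀ x g : X, g * x ^ 2 * g⁻¹ = x ^ 2) :
    ∀ a b : X, ⁅a, b⁆ ∈ center X := by
  intro a b
  have hq : ∀ x : X ⧸ center X, x * x = 1 := by
    intro x
    obtain ⟨x, rfl⟩ := QuotientGroup.mk_surjective x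
    rw [← QuotientGroup.mk_mul, QuotientGroup.eq_one_iff, mem_center_iff, ← sq]
    intro g
    exact mul_inv_eq_iff_eq_mul.mp (hsq x g)
  rw [← QuotientGroup.eq_one_iff]
  have hinv : ∀ x : X ⧸ center X, x⁻¹ = x := fun x => inv_eq_of_mul_eq_one_right (hq x)
  rw [commutatorElement_def]
  simp only [QuotientGroup.mk_mul, QuotientGroup.mk_inv, hinv]
  rw [mul_assoc ((a : X ⧸ center X) * b) _ _]
  exact hq _

include hX hz hzc huniq in
/-- Maximal class or a normal four-group. -/
theorem isDQ_or_normal_four (hv : ∃ v : X, orderOf v = 2 ∧ v ≠ z) :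
    IsDQ X ∨ ∃ e : X, orderOf e = 2 ∧ e ≠ z ∧ ∀ g : X, g * e * g⁻¹ = e ∨ g * e * g⁻¹ = e * z := by
  haveI : Fact (Nat.Prime 2) := ⟨Nat.prime_two⟩
  obtain ⟨v, hv2, hvz⟩ := hv
  have hna : ∃ x y : X, x * y ≠ y * x := by
    by_contra h
    push Not at h
    exact hvz (huniq v hv2 (mem_center_iff.mpr fun g => h g v))
  by_cases hcyc : ∃ C : Subgroup X, C.index = 2 ∧ IsCyclic C
  · obtain ⟨C, hCi, hC⟩ := hcyc
    by_cases hsq : ∀ x g : X, g * x ^ 2 * g⁻¹ = x ^ 2
    · exact Or.inr ⟨v, hv2, hvz, conj_cases_of_sq_central z hz hzc huniq hsq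
        (commutator_central hsq) hv2⟩
    · push Not at hsq
      exact Or.inl (isDQ_of_cyclic_index_two hX hna hv2 hz hvz C hC hCi (Or.inr hsq))
  · push Not at hcyc
    obtain ⟨e, w, he1, hw1, hew, he2, hw2, hwc, hconj⟩ :=
      CfsgLib.Kulakoff.exists_normal_four hX (fun h => by
        obtain ⟨x, y, hxy⟩ := hna
        exact hxy ((IsCyclic.isMulCommutative (α := X)).is_comm.comm x y)) hcyc
    obtain rfl : w = z := huniq w (orderOf_eq_prime (by rw [sq]; exact hw2) hw1) hwc
    exact Or.inr ⟨e, orderOf_eq_prime (by rw [sq]; exact he2) he1, hew, hconj⟩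

include hX hz hzc huniq in
/-- An involution with centraliser of order four forces maximal class. -/
theorem isDQ_of_small_centralizer {s : X} (hs : orderOf s = 2) (hsz : s ≠ z)
    (hc : Nat.card (centralizer ({s} : Set X)) ≤ 4) : IsDQ X := by
  haveI : Fact (Nat.Prime 2) := ⟨Nat.prime_two⟩
  have hna : ∃ x y : X, x * y ≠ y * x := by
    by_contra h
    push Not at h
    exact hsz (huniq s hs (mem_center_iff.mpr fun g => h g s))
  obtain ⟨n, hn⟩ := hX.exists_card_eq
  have hn3 : 3 ≤ n := by
    by_contra h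
    obtain ⟨x, y, hxy⟩ := hna
    apply hxy
    have hle : n ≤ 2 := by omega
    interval_cases n
    · haveI : Subsingleton X := (Nat.card_eq_one_iff_unique.mp (by rw [hn]; norm_num)).1
      rw [Subsingleton.elim x y]
    · haveI : IsCyclic X := isCyclic_of_prime_card (p := 2) (by rw [hn]; norm_num)
      exact (IsCyclic.isMulCommutative (α := X)).is_comm.comm x y
    · haveI := IsPGroup.isMulCommutative_of_card_eq_prime_sq (p := 2) hn
      exact mul_comm' x y
  have hcl := CfsgLib.PGroup.nilpotencyClass_of_small_centralizer (p := 2) n (by omega) hn s (by simpa using hc)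
  have hidx := CfsgLib.PGroup.MaxClass.index_four_of_klein (CfsgLib.PGroup.MaxClass.klein_of_class n hn3 hn hcl)
  obtain ⟨C, hC, hCi⟩ := CfsgLib.PGroup.MaxClass.exists_cyclic_index_two n X (by omega) hn hidx
  refine isDQ_of_cyclic_index_two hX hna hs hz hsz C hC hCi ?_
  by_contra hcon
  push Not at hcon
  obtain ⟨h8, hsq⟩ := hcon
  have hconj : ∀ g : X, g * s * g⁻¹ = s ∨ g * s * g⁻¹ = s * z := conj_cases_of_sq_central z hz hzc huniq hsq
    (commutator_central hsq) hs
  set K := centralizer ({s} : Set X) with hK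
  have h2 : K.index ≤ 2 := by
    by_cases htop : K = ⊤
    · rw [htop, index_top]; norm_num
    obtain ⟨a, ha⟩ : ∃ a, a ∉ K := by
      by_contra h; push Not at h
      exact htop ((eq_top_iff' K).mpr h)
    have : K.index = 2 := index_eq_two_iff.mpr ⟨a⁻¹, fun b => by
      by_cases hb : b ∈ K
      · refine Or.inr ⟨hb, fun h => ha ?_⟩
        have := mul_mem (inv_mem hb) h
        rw [inv_mul_cancel_left, inv_mem_iff] at this
        exact this
      · refine Or.inl ⟨?_, hb⟩
        rw [hK, mem_centralizer_singleton_iff] at ha hb ⊢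
        rw [← mul_inv_eq_iff_eq_mul] at ha hb ⊢
        have h1 := (hconj a).resolve_left ha
        have h3 := (hconj b).resolve_left hb
        have h4 : a⁻¹ * (s * z) * a = s := by rw [← h1]; group
        have hz1 : z * z = 1 := by rw [← sq, ← hz]; exact pow_orderOf_eq_one z
        have h5 : b * (a⁻¹ * s * a) * b⁻¹ = s := by
          have h6 : a⁻¹ * s * a = s * z := by
            calc a⁻¹ * s * a = a⁻¹ * (s * z * z) * a := by rw [mul_assoc s z z, hz1, mul_one]
              _ = a⁻¹ * (s * z) * (z * a) := by group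
              _ = a⁻¹ * (s * z) * (a * z) := by rw [mem_center_iff.mp hzc a]
              _ = s * z := by rw [← mul_assoc, h4]
          rw [h6, show b * (s * z) * b⁻¹ = b * s * (z * b⁻¹) by group, ← mem_center_iff.mp hzc b⁻¹,
            ← mul_assoc, h3, mul_assoc, hz1, mul_one]
        calc b * a⁻¹ * s * (b * a⁻¹)⁻¹ = b * (a⁻¹ * s * a) * b⁻¹ := by group
          _ = s := h5⟩
    omega
  have hm := card_mul_index K
  have : Nat.card K * K.index ≤ 4 * 2 := Nat.mul_le_mul hc h2
  omega

end CfsgLib.TwoFusion.AlperinRankTwo
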