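import Cfsg.Agent.Lib.Invol.SimpleKleinFour
import Cfsg.Agent.Lib.TwoFusion.AlperinRankTwo.Main
import Cfsg.Agent.S0949

/-!
Sylow 2-subgroups of simple groups of 2-rank two, relative to the hypothesis `hFT` that groups of
odd order are solvable.
-/

set_option autoImplicit false

universe u v

namespace CfsgLib.TwoFusion.AlperinRankTwo

theorem simple_sylow_types
    (hFT : ∀ (X : Type u) [Group X] [Finite X], Odd (Nat.card X) → Group.IsSolvable X)
    {G : Type u} [Group G] [Finite G] [IsSimpleGroup G]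
    (hG : ¬ IsMulCommutative G) (h2 : Cfsg.PRankLE 2 2 G) (S : Sylow 2 G) {F : Type v} [Field F]
    [Fintype F] (hF : Fintype.card F = 16) (P : Sylow 2 (Cfsg.PSU 3 F 4)) :
    (∃ n : ℕ, 2 ≤ n ∧ Nonempty ((S : Subgroup G) ≃* DihedralGroup n)) ∨
      Cfsg.IsQuasiDihedral (S : Subgroup G) ∨
      Cfsg.IsWreathed (S : Subgroup G) ∨
      Nonempty ((S : Subgroup G) ≃* (P : Subgroup (Cfsg.PSU 3 F 4))) := by
  have hcyc : ¬ IsCyclic G := fun h => hG
    (let _ : CommGroup G := h.commGroup; ⟨⟨mul_comm⟩⟩)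
  have heven : Even (Nat.card G) := (Nat.even_or_odd _).resolve_right fun ho =>
    hG ⟨⟨IsSimpleGroup.comm_iff_isSolvable.2 (hFT G ho)⟩⟩
  have hcen : Subgroup.center G = ⊥ :=
    (Subgroup.Normal.eq_bot_or_eq_top (inferInstance : (Subgroup.center G).Normal)).resolve_right
      fun h => hG ⟨⟨fun a b => (Subgroup.mem_center_iff.1 (h ▸ Subgroup.mem_top b) a)⟩⟩
  have hO : ∀ N : Subgroup G, N.Normal → Odd (Nat.card N) → N = ⊥ := fun N hN hNo =>
    hN.eq_bot_or_eq_top.resolve_right fun h => by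
      rw [h, Subgroup.card_top] at hNo
      exact Nat.not_even_iff_odd.2 hNo heven
  have hcore : Cfsg.pPrimeCore 2 G = ⊥ := CfsgLib.Invol.pPrimeCore_two_eq_bot hO
  have hiso : ∀ z : G, ¬ Cfsg.IsIsolatedInvolution z := fun z hz => by
    have hzc : z ∈ Subgroup.center G := Subgroup.mem_center_iff.2 fun g => by
      have h := CfsgLib.Invol.zStar hz g
      rw [hcore, Subgroup.mem_bot, mul_inv_eq_one, mul_inv_eq_iff_eq_mul] at h
      exact h.symm
    rw [hcen, Subgroup.mem_bot] at hzc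
    have := hz.1
    rw [hzc, orderOf_one] at this
    exact absurd this (by norm_num)
  have h1 : ¬ Cfsg.PRankLE 2 1 G := fun h => by
    obtain ⟨E, hE⟩ := CfsgLib.Invol.exists_klein_of_simple_noncyclic hFT hcyc
    have hle := h E ⟨⟨fun a b => mul_comm_of_exponent_two hE.exponent_two a b⟩⟩ (fun a ha => by
      have := Monoid.pow_exponent_eq_one (⟨a, ha⟩ : E)
      rw [hE.exponent_two] at this
      exact congrArg Subtype.val this)
    rw [hE.card_four] at hle
    norm_num at hle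
  rcases main h2 h1 hiso S hF P with h | h | h | ⟨n, hn, ⟨e⟩⟩ | h
  · exact Or.inl h
  · exact Or.inr (Or.inl h)
  · exact Or.inr (Or.inr (Or.inl h))
  · exfalso
    obtain ⟨hN, -, -⟩ := Cfsg.Agent.S0949.result S n hn e hO
    rcases hN.eq_bot_or_eq_top with h | h
    · exact S.ne_bot_of_dvd_card (even_iff_two_dvd.1 heven) h
    · exact hG ⟨⟨fun a b => congrArg Subtype.val (e.injective (by rw [map_mul, map_mul, mul_comm]) :
        (⟨a, h ▸ Subgroup.mem_top a⟩ : (S : Subgroup G)) * ⟨b, h ▸ Subgroup.mem_top b⟩ =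
          ⟨b, h ▸ Subgroup.mem_top b⟩ * ⟨a, h ▸ Subgroup.mem_top a⟩)⟩⟩
  · exact Or.inr (Or.inr (Or.inr h))

end CfsgLib.TwoFusion.AlperinRankTwo
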